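import Mathlib
import Cfsg.Agent.Lib.Helper32.Scn.Tools

/-!
# S1904 package (Mt) (helper15): the tools `MT X M n` for the level filtration of `X` acting
on the maximal `A`-invariant normal abelian subgroup `M`.
-/

set_option autoImplicit false

universe u

namespace Cfsg.Agent.Lib.Helper15.Scn

open Cfsg.Agent.Lib.Helper32.Scn

variable {X : Type u} [Group X]

/-- the commutator map `c_x(m) = x m x⁻¹ m⁻¹`. -/
def cm (x m : X) : X := x * m * x⁻¹ * m⁻¹

theorem cm_def (x m : X) : cm x m = x * m * x⁻¹ * m⁻¹ := rfl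

theorem cm_mem {M : Subgroup X} (hN : M.Normal) (x : X) {m : X} (hm : m ∈ M) : cm x m ∈ M :=
  M.mul_mem (hN.conj_mem m hm x) (M.inv_mem hm)

/-- `c_x` is multiplicative on a normal abelian subgroup. -/
theorem cm_mul {M : Subgroup X} (hN : M.Normal) (hab : ∀ a ∈ M, ∀ b ∈ M, a * b = b * a)
    (x : X) {m m' : X} (hm : m ∈ M) (hm' : m' ∈ M) :
    cm x (m * m') = cm x m * cm x m' := by
  have h1 := hab _ (cm_mem hN x hm') _ (M.inv_mem hm)
  calc cm x (m * m') = (x * m * x⁻¹) * (cm x m' * m⁻¹) := by unfold cm; group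
    _ = (x * m * x⁻¹) * (m⁻¹ * cm x m') := by rw [h1]
    _ = cm x m * cm x m' := by unfold cm; group

theorem cm_pow {M : Subgroup X} (hN : M.Normal) (hab : ∀ a ∈ M, ∀ b ∈ M, a * b = b * a)
    (x : X) {m : X} (hm : m ∈ M) (j : ℕ) : cm x (m ^ j) = (cm x m) ^ j := by
  induction j with
  | zero => simp [cm]
  | succ j ih => rw [pow_succ, cm_mul hN hab x (M.pow_mem hm j) hm, ih, pow_succ]

theorem cm_central (x : X) {v : X} (hv : v ∈ omZ X) : cm x v = 1 := by
  unfold cm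
  rw [omZ_comm hv x]
  group

theorem sq_pow (a : X) {k : ℕ} (hk : 1 ≤ k) : (a * a) ^ (2 ^ (k - 1)) = a ^ (2 ^ k) := by
  obtain ⟨j, rfl⟩ : ∃ j, k = j + 1 := ⟨k - 1, by omega⟩
  rw [Nat.add_sub_cancel, ← pow_two, ← pow_mul, ← pow_succ']

/-- **(Mt)** -/
theorem lemMtools : LemMtools.{u} := by
  intro X _ _ A φ M n h hcen
  have hN : M.Normal := h.c.nrm
  have hab := h.c.ab
  have hMne : M ≠ ⊥ := by
    obtain ⟨m, hm, hmV⟩ := h.c.ne
    intro hb
    rw [hb, Subgroup.mem_bot] at hm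
    rw [hm] at hmV
    exact hmV (omZ X).one_mem
  have hinv : ∀ b ∈ M, b * b = 1 → b ∈ omZ X := (h.c.b.abel M hN h.c.inv hab hMne).2
  have hn : n - 1 + 1 = n := by have := h.n2; omega
  have low : ∀ (g : X) (k : ℕ), ∀ m ∈ M, m ^ (2 ^ (k + 1)) = 1 → (cm g m) ^ (2 ^ k) = 1 := by
    intro g k m hm hmk
    rw [← cm_pow hN hab g hm]
    apply cm_central
    apply hinv _ (M.pow_mem hm _)
    rw [← pow_add, ← two_mul, ← pow_succ']
    exact hmk
  have sqc : ∀ g : X, ∀ m ∈ M, ∃ u ∈ M, cm g m = u * u := by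
    intro g m hm
    apply h.sqr _ (cm_mem hN g hm)
    apply low g (n - 1) m hm
    rw [hn]; exact h.exp m hm
  refine ⟨hcen, sqc, low, ?_, ?_, ?_⟩
  · -- c1
    intro k hk1 hk x hx g
    apply hk
    unfold Lv
    intro m' hm'
    have hkk : k - 1 + 1 = k := by omega
    obtain ⟨m, hm, rfl⟩ : ∃ m ∈ M, m' = (x * g) * m * (x * g)⁻¹ :=
      ⟨(x * g)⁻¹ * m' * (x * g), by simpa using hN.conj_mem m' hm' (x * g)⁻¹, by group⟩
    have hA : cm x m ∈ M := cm_mem hN x hm
    have hB : cm g m ∈ M := cm_mem hN g hm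
    have hP : cm g (cm x m) ∈ M := cm_mem hN g hA
    have hQ : cm x (cm g m) ∈ M := cm_mem hN x hB
    have key : (g * x * g⁻¹ * x⁻¹) * ((x * g) * m * (x * g)⁻¹) * (g * x * g⁻¹ * x⁻¹)⁻¹
          * ((x * g) * m * (x * g)⁻¹)⁻¹
        = cm g (cm x m) * (cm x (cm g m))⁻¹ := by
      have hAB : cm x m * cm g m = cm g m * cm x m := hab _ hA _ hB
      calc (g * x * g⁻¹ * x⁻¹) * ((x * g) * m * (x * g)⁻¹) * (g * x * g⁻¹ * x⁻¹)⁻¹
            * ((x * g) * m * (x * g)⁻¹)⁻¹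
          = (g * (x * m * x⁻¹) * g⁻¹) * (x * (g * m * g⁻¹) * x⁻¹)⁻¹ := by group
        _ = (cm g (cm x m) * cm x m * (cm g m * m))
            * (cm x (cm g m) * cm g m * (cm x m * m))⁻¹ := by
            congr 1
            · unfold cm; group
            · unfold cm; group
        _ = cm g (cm x m) * (cm x m * cm g m)
            * ((cm x m)⁻¹ * (cm g m)⁻¹ * (cm x (cm g m))⁻¹) := by group
        _ = cm g (cm x m) * (cm g m * cm x m)
            * ((cm x m)⁻¹ * (cm g m)⁻¹ * (cm x (cm g m))⁻¹) := by rw [hAB]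
        _ = cm g (cm x m) * (cm x (cm g m))⁻¹ := by group
    rw [key]
    have hcomm : Commute (cm g (cm x m)) (cm x (cm g m))⁻¹ := hab _ hP _ (M.inv_mem hQ)
    rw [hcomm.mul_pow, inv_pow]
    have h1 : cm g (cm x m) ^ (2 ^ (k - 1)) = 1 := by
      apply low g (k - 1) _ hA
      rw [hkk]; exact hx m hm
    have h2 : cm x (cm g m) ^ (2 ^ (k - 1)) = 1 := by
      obtain ⟨u, hu, hcu⟩ := sqc g m hm
      rw [hcu, cm_mul hN hab x hu hu, sq_pow _ hk1]
      exact hx u hu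
    rw [h1, h2]; simp
  · -- c2
    intro k hk1 hk x hx
    apply hk
    unfold Lv
    intro m hm
    have hA : cm x m ∈ M := cm_mem hN x hm
    have hP : cm x (cm x m) ∈ M := cm_mem hN x hA
    have key : (x * x) * m * (x * x)⁻¹ * m⁻¹ = cm x (cm x m) * (cm x m * cm x m) := by
      unfold cm; group
    rw [key]
    have hcomm : Commute (cm x (cm x m)) (cm x m * cm x m) := hab _ hP _ (M.mul_mem hA hA)
    rw [hcomm.mul_pow]
    have h1 : cm x (cm x m) ^ (2 ^ (k - 1)) = 1 := by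
      obtain ⟨u, hu, hcu⟩ := sqc x m hm
      rw [hcu, cm_mul hN hab x hu hu, sq_pow _ hk1]
      exact hx u hu
    have h2 : (cm x m * cm x m) ^ (2 ^ (k - 1)) = 1 := by
      rw [sq_pow _ hk1]; exact hx m hm
    rw [h1, h2, one_mul]
  · -- lvn
    intro x m hm
    apply low x (n - 1) m hm
    rw [hn]; exact h.exp m hm

end Cfsg.Agent.Lib.Helper15.Scn

example : Cfsg.Agent.Lib.Helper32.Scn.LemMtools.{u} := Cfsg.Agent.Lib.Helper15.Scn.lemMtools
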